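import Cfsg.Agent.H51.Der.Tools
import Cfsg.Agent.H493.Sep.RowON
import Cfsg.Agent.H866.VanON

/-!
# S3500: the group of O'Nan (helper51)
-/

set_option autoImplicit false

namespace Cfsg.Agent.H51.Der

open Cfsg Subgroup Cfsg.Agent.H439.Der Cfsg.Agent.H940.Eng Cfsg.Agent.H940.Eng.D

/-- the check at one prime (split for the memory of the kernel check) -/
def chkP (x : ℕ × ℕ) : Bool :=
  ([] : List ℕ).contains x.1 || chkV l_opn n_opn [2624832] Cfsg.Agent.H493.Sep.RowON.loc o_opn x.1

set_option maxRecDepth 100000 in
theorem chkP_2 : chkP (2, 9) = true := by decide +kernel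

set_option maxRecDepth 100000 in
theorem chkP_3 : chkP (3, 4) = true := by decide +kernel

set_option maxRecDepth 100000 in
theorem chkP_5 : chkP (5, 1) = true := by decide +kernel

set_option maxRecDepth 100000 in
theorem chkP_7 : chkP (7, 3) = true := by decide +kernel

set_option maxRecDepth 100000 in
theorem chkP_11 : chkP (11, 1) = true := by decide +kernel

set_option maxRecDepth 100000 in
theorem chkP_19 : chkP (19, 1) = true := by decide +kernel

set_option maxRecDepth 100000 in
theorem chkP_31 : chkP (31, 1) = true := by decide +kernel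

theorem chkON : (l_opn.all fun x => ([] : List ℕ).contains x.1 ||
    chkV l_opn n_opn [2624832] Cfsg.Agent.H493.Sep.RowON.loc o_opn x.1) = true := by
  refine List.all_eq_true.2 fun x hx => ?_
  change chkP x = true
  simp only [l_opn, List.mem_cons, List.not_mem_nil, or_false] at hx
  rcases hx with rfl | rfl | rfl | rfl | rfl | rfl | rfl
  · exact chkP_2
  · exact chkP_3
  · exact chkP_5
  · exact chkP_7
  · exact chkP_11
  · exact chkP_19
  · exact chkP_31

theorem row_ON (B : Base) : Row Spor.ON := by
  intro M hM
  have c := Cfsg.Agent.H493.Sep.RowON.ctx B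
  have := c.fin
  have := c.simple
  refine Or.inl ?_
  rcases two_or_index c [] [2624832] (fun v hv => absurd hv List.not_mem_nil)
    ⟨chkON, by decide, by decide⟩ M hM.1 with h1 | h1
  · exact h1
  rw [List.mem_singleton] at h1
  have h2 := card_mul_index M
  rw [c.card, h1, show n_opn = 175560 * 2624832 by decide] at h2
  have h6 : Nat.card M = 175560 := Nat.eq_of_mul_eq_mul_right (by norm_num) h2
  exact two_of_order (v := 31) (a := 16) (by norm_num) (by rw [c.card]; decide) (by rw [h6]; decide)
    Cfsg.Agent.H866.VanON.order_16 (by norm_num) (by rw [h6]; decide)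

end Cfsg.Agent.H51.Der
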