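import Cfsg.Agent.H154.PG
import Cfsg.Agent.H468.HCS.Struct

/-!
# Two non-adjacent primes dividing the order of the same chief factor (helper51)
-/

set_option autoImplicit false

namespace Cfsg.Agent.H51.Der

open Subgroup Cfsg.Agent.H154.PG

universe u

/-- no prime `q` divides `p ^ i - 1`, `1 ≤ i ≤ v_p(n)` -/
def NoOrd (p q n : ℕ) : Prop := ∀ i, 1 ≤ i → p ^ i ∣ n → ¬ q ∣ p ^ i - 1

section

variable {X : Type u} [Group X] [Finite X] {p q : ℕ}

/-- a normal subgroup whose order is divisible by `p` has index prime to `q` -/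
theorem not_dvd_index (hp : p.Prime) (hq : q.Prime) (hpq : p ≠ q) (hadj : NonAdj X p q) {n : ℕ} (hn : Nat.card X ∣ n)
    (h1 : NoOrd p q n) (N : Subgroup X) [N.Normal] (hN : p ∣ Nat.card N) : ¬ q ∣ N.index := by
  intro hd
  have h2 := frattini_dvd hp hq hpq hadj N
  have h3 : 1 ≤ N.index.factorization q :=
    (hq.dvd_iff_one_le_factorization Subgroup.index_ne_zero_of_finite).1 hd
  refine h1 _ ((hp.dvd_iff_one_le_factorization Nat.card_pos.ne').1 hN)
    ((Nat.ordProj_dvd _ _).trans ((card_subgroup_dvd_card N).trans hn)) ((dvd_pow_self q ?_).trans h2)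
  omega

/-- **two non-adjacent primes** -/
theorem pair_section (hp : p.Prime) (hq : q.Prime) (hpq : p ≠ q) (hadj : NonAdj X p q) (hpX : p ∣ Nat.card X)
    (hqX : q ∣ Nat.card X) (h1 : NoOrd p q (Nat.card X)) (h2 : NoOrd q p (Nat.card X)) :
    ∃ (K : Subgroup X) (_ : K.Normal) (S : Subgroup (X ⧸ K)), S.Normal ∧ ¬ p ∣ Nat.card K ∧ ¬ q ∣ Nat.card K ∧
      IsSimpleGroup S ∧ (¬ ∀ a b : S, a * b = b * a) ∧ p ∣ Nat.card S ∧ q ∣ Nat.card S ∧ ¬ p ∣ S.index ∧
      ¬ q ∣ S.index ∧ centralizer (S : Set (X ⧸ K)) = ⊥ := by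
  have := Fact.mk hp
  have := Fact.mk hq
  obtain ⟨K, hKn, hpK, hmax⟩ := Cfsg.Agent.H468.HCS.exists_core (H := X) hp
  have hqK : ¬ q ∣ Nat.card K := by
    intro hd
    have h3 := not_dvd_index hq hp hpq.symm hadj.symm dvd_rfl h2 K hd
    have h4 := hpX
    rw [← card_mul_index K, hp.dvd_mul] at h4
    exact h4.elim hpK h3
  have hcQ : Nat.card X = Nat.card (X ⧸ K) * Nat.card K := Subgroup.card_eq_card_quotient_mul_card_subgroup K
  have hpQ : p ∣ Nat.card (X ⧸ K) := by
    have h4 := hpX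
    rw [hcQ, hp.dvd_mul] at h4
    exact h4.resolve_right hpK
  have hqQ : q ∣ Nat.card (X ⧸ K) := by
    have h4 := hqX
    rw [hcQ, hq.dvd_mul] at h4
    exact h4.resolve_right hqK
  have hQX : Nat.card (X ⧸ K) ∣ Nat.card X := ⟨_, hcQ⟩
  have hadjQ : NonAdj (X ⧸ K) p q := hadj.of_surjective (QuotientGroup.mk' K) (QuotientGroup.mk'_surjective K)
  -- nontrivial normal subgroups of the quotient
  have hdiv : ∀ N : Subgroup (X ⧸ K), N.Normal → N ≠ ⊥ → p ∣ Nat.card N := by
    intro N hN hN1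
    by_contra hcon
    have hc := Cfsg.Agent.H468.HCS.card_comap_mk K N
    have hle : K ≤ N.comap (QuotientGroup.mk' K) := by
      intro k hk
      have h5 : QuotientGroup.mk' K k = 1 := (QuotientGroup.eq_one_iff k).2 hk
      rw [mem_comap, h5]
      exact N.one_mem
    have h5 : N.comap (QuotientGroup.mk' K) = K := hmax _ (hN.comap _) (by
      rw [hc, hp.dvd_mul]
      exact fun h => h.elim hpK hcon) hle
    apply hN1
    rw [← Subgroup.card_eq_one]
    rw [h5] at hc
    have h6 : 0 < Nat.card K := Nat.card_pos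
    exact (Nat.eq_of_mul_eq_mul_left h6 (by rw [mul_one]; exact hc)).symm
  have hnt : Nontrivial (X ⧸ K) := by
    rw [← Finite.one_lt_card_iff_nontrivial]
    exact hp.one_lt.trans_le (Nat.le_of_dvd Nat.card_pos hpQ)
  obtain ⟨N, hN, hN1, hmin⟩ := Cfsg.Agent.Lib.SubnormalJoin.exists_minimal_normal (X ⧸ K)
  have hpN : p ∣ Nat.card N := hdiv N hN hN1
  have hqi : ¬ q ∣ N.index := not_dvd_index hp hq hpq hadjQ hQX h1 N hpN
  have hqN : q ∣ Nat.card N := by
    have h4 := hqQ
    rw [← card_mul_index N, hq.dvd_mul] at h4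
    exact h4.resolve_right hqi
  have hpi : ¬ p ∣ N.index := not_dvd_index hq hp hpq.symm hadjQ.symm hQX h2 N hqN
  obtain ⟨S, m, -, hS, hm, ⟨e⟩⟩ := Cfsg.Agent.Lib.MinNormal.exists_mulEquiv_pi N hN1 hmin
  have hcard : Nat.card N = Nat.card S ^ m := by
    rw [Nat.card_congr e.toEquiv, Nat.card_fun, Nat.card_fin]
  have hm1 : m = 1 := by
    by_contra hne
    have hpS : p ∣ Nat.card S := hp.dvd_of_dvd_pow (hcard ▸ hpN)
    have hqS : q ∣ Nat.card S := hq.dvd_of_dvd_pow (hcard ▸ hqN)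
    obtain ⟨x, hx⟩ := exists_prime_orderOf_dvd_card' p hpS
    obtain ⟨y, hy⟩ := exists_prime_orderOf_dvd_card' q hqS
    let i : Fin m := ⟨0, by omega⟩
    let j : Fin m := ⟨1, by omega⟩
    have hij : i ≠ j := by
      intro h
      exact absurd (congrArg Fin.val h) (by norm_num [i, j])
    have ho : ∀ (k : Fin m) (s : S), orderOf (((e.symm (Pi.mulSingle k s) : N) : X ⧸ K)) = orderOf s := by
      intro k s
      rw [Subgroup.orderOf_coe, MulEquiv.orderOf_eq]
      exact orderOf_injective (MonoidHom.mulSingle (fun _ : Fin m => S) k)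
        (Pi.mulSingle_injective (M := fun _ : Fin m => S) k) s
    have hc : Commute (((e.symm (Pi.mulSingle i x) : N) : X ⧸ K)) ((e.symm (Pi.mulSingle j y) : N) : X ⧸ K) := by
      have h3 : Commute (Pi.mulSingle i x : Fin m → S) (Pi.mulSingle j y) :=
        Pi.mulSingle_commute (f := fun _ : Fin m => S) hij x y
      have h4 : e.symm (Pi.mulSingle i x) * e.symm (Pi.mulSingle j y) =
          e.symm (Pi.mulSingle j y) * e.symm (Pi.mulSingle i x) := by
        rw [← map_mul, ← map_mul, h3.eq]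
      exact congrArg Subtype.val h4
    exact hadjQ.not_commute hp hq hpq ((ho i x).trans hx) ((ho j y).trans hy) hc
  subst hm1
  have e1 : N ≃* S := e.trans (MulEquiv.piUnique (fun _ : Fin 1 => S))
  have hsimp : IsSimpleGroup N := (MulEquiv.isSimpleGroup_congr e1).2 hS
  refine ⟨K, hKn, N, hN, hpK, hqK, hsimp, ?_, hpN, hqN, hpi, hqi, ?_⟩
  · intro hab
    let _ : CommGroup N := { (inferInstance : Group N) with mul_comm := hab }
    have h3 : (Nat.card N).Prime := IsSimpleGroup.prime_card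
    exact hpq (((Nat.prime_dvd_prime_iff_eq hp h3).1 hpN).trans ((Nat.prime_dvd_prime_iff_eq hq h3).1 hqN).symm)
  · by_contra hC
    have h3 := hdiv (centralizer (N : Set (X ⧸ K))) inferInstance hC
    obtain ⟨x, hx⟩ := exists_prime_orderOf_dvd_card' p h3
    obtain ⟨y, hy⟩ := exists_prime_orderOf_dvd_card' q hqN
    exact hadjQ.not_commute hp hq hpq (x := (x : X ⧸ K)) (y := (y : X ⧸ K)) (by rw [Subgroup.orderOf_coe, hx])
      (by rw [Subgroup.orderOf_coe, hy]) (mem_centralizer_iff.1 x.2 y y.2).symm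

end

end Cfsg.Agent.H51.Der
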