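import Cfsg.Agent.H51.Der.Tools
import Cfsg.Agent.H51.Der.Pair
import Cfsg.Agent.H70.RowHe
import Cfsg.Agent.CpAutHe.Seven
import Cfsg.Agent.H436.CompOne
import Cfsg.Agent.H439.Der.Tools

/-!
# S3500: the Held group (helper51)
-/

set_option autoImplicit false
set_option maxRecDepth 100000

namespace Cfsg.Agent.H51.Der

open Cfsg Subgroup Cfsg.Agent.H439.Der Cfsg.Agent.OrdDiv Cfsg.Agent.H940.Eng Cfsg.Agent.H940.Eng.D
open Cfsg.Agent.H70.HeCoat (G cardG finG)
open Cfsg.Agent.SporadicB.HePerm (act wd)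
open Cfsg.Agent.H436

theorem chkHe : (l_he.all fun x => ([7, 17] : List ℕ).contains x.1 ||
    chkV l_he n_he [] Cfsg.Agent.H70.RowHe.loc o_he x.1) = true := by
  decide +kernel

/-! ### elements of order 5 -/

theorem card_cent_five {w : G} (hw : orderOf w = 5) : ¬ 7 ∣ Nat.card (centralizer ({w} : Set G)) := by
  have := finG
  obtain ⟨u, hu⟩ := HeFive.exists_conj hw
  have ho : orderOf (u * w * u⁻¹) = 5 := (orderOf_conj u w).trans hw
  have hz : zpowers (u * w * u⁻¹) = zpowers (wd HeFive.X) := by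
    refine eq_of_le_of_card_ge (zpowers_le.2 hu) ?_
    rw [Nat.card_zpowers, Nat.card_zpowers, ho, HeFive.orderX]
  rw [card_cent_map (MulAut.conj u) (x := w) (y := u * w * u⁻¹) rfl, cent_eq_of_zpowers hz]
  have h1 := HeFive.card_le
  have hmem : ∀ {y : G} {k : ℕ}, orderOf y = k → y * wd HeFive.X = wd HeFive.X * y →
      k ∣ Nat.card (centralizer ({wd HeFive.X} : Set G)) := by
    intro y k hy hc
    rw [← hy, ← Subgroup.orderOf_mk y (mem_centralizer_singleton_iff.2 hc)]
    exact orderOf_dvd_natCard _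
  have h2 := hmem HeFive.orderA HeFive.commA
  have h3 := hmem HeFive.orderQ HeFive.commQ
  have h25 : 25 ∣ Nat.card (centralizer ({wd HeFive.X} : Set G)) := by
    rw [← HeFive.card_E]
    refine card_dvd_of_le ?_
    unfold HeFive.E
    rw [closure_le]
    rintro y (rfl | rfl)
    · exact mem_centralizer_singleton_iff.2 rfl
    · exact mem_centralizer_singleton_iff.2 HeFive.commXY.symm
  intro h7
  have h4 : 1050 ∣ Nat.card (centralizer ({wd HeFive.X} : Set G)) := by
    have h5 : 2 * 3 ∣ Nat.card (centralizer ({wd HeFive.X} : Set G)) :=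
      Nat.Coprime.mul_dvd_of_dvd_of_dvd (by norm_num) h2 h3
    have h6 : 2 * 3 * 25 ∣ Nat.card (centralizer ({wd HeFive.X} : Set G)) :=
      Nat.Coprime.mul_dvd_of_dvd_of_dvd (by norm_num) h5 h25
    exact Nat.Coprime.mul_dvd_of_dvd_of_dvd (m := 2 * 3 * 25) (n := 7) (by norm_num) h6 h7
  have h5 := Nat.le_of_dvd Nat.card_pos h4
  have h6 := h5.trans h1
  norm_num at h6

theorem nonAdj_five_seven : Cfsg.Agent.H154.PG.NonAdj G 5 7 := by
  rintro ⟨g, hg⟩
  have := finG
  have h1 : orderOf (g ^ 7) = 5 := by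
    rw [orderOf_pow_of_dvd (by norm_num) (by rw [hg]; norm_num), hg]
  have h2 : orderOf (g ^ 5) = 7 := by
    rw [orderOf_pow_of_dvd (by norm_num) (by rw [hg]; norm_num), hg]
  refine card_cent_five h1 ?_
  have h3 : orderOf (⟨g ^ 5, mem_centralizer_singleton_iff.2 ((Commute.refl g).pow_pow 5 7)⟩ :
      centralizer ({g ^ 7} : Set G)) = 7 := (Subgroup.orderOf_mk _ _).trans h2
  have h4 := orderOf_dvd_natCard (⟨g ^ 5, mem_centralizer_singleton_iff.2 ((Commute.refl g).pow_pow 5 7)⟩ :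
      centralizer ({g ^ 7} : Set G))
  rwa [h3] at h4

/-- no element of order 25 -/
theorem not_twentyfive (g : G) : ¬ 25 ∣ orderOf g := by
  intro h
  have := finG
  have h5 : Fact (Nat.Prime 5) := ⟨by norm_num⟩
  obtain ⟨k, hk⟩ := h
  have hk0 : k ≠ 0 := by
    rintro rfl
    exact (orderOf_pos g).ne' (by rw [hk, mul_zero])
  have hy : orderOf (g ^ k) = 25 := by
    rw [orderOf_pow_of_dvd hk0 (by rw [hk]; exact dvd_mul_left _ _), hk, Nat.mul_div_cancel _ (Nat.pos_of_ne_zero hk0)]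
  obtain ⟨P, hP⟩ := HeFive.isP.exists_le_sylow
  have hPc : Nat.card ↥(P : Subgroup G) = 25 := by
    rw [P.card_eq_multiplicity, cardG]
    decide +kernel
  have hPE : HeFive.E = P := Subgroup.eq_of_le_of_card_ge hP (by rw [hPc, HeFive.card_E])
  have hZ : IsPGroup 5 (zpowers (g ^ k)) := IsPGroup.of_card (n := 2) (by rw [Nat.card_zpowers, hy]; norm_num)
  obtain ⟨Q, hQ⟩ := hZ.exists_le_sylow
  obtain ⟨u, hu⟩ := MulAction.exists_smul_eq G Q P
  have hmem : u * g ^ k * u⁻¹ ∈ (P : Subgroup G) := by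
    rw [← hu, Sylow.coe_subgroup_smul]
    exact ⟨g ^ k, hQ (mem_zpowers _), rfl⟩
  rw [← hPE] at hmem
  obtain ⟨i, j, he⟩ := HeFive.exists_pow HeFive.powX HeFive.powY HeFive.commXY hmem
  have h1 : (u * g ^ k * u⁻¹) ^ 5 = 1 := by
    rw [he, ((show Commute (wd HeFive.X) (wd HeFive.Y) from HeFive.commXY).pow_pow i j).mul_pow, ← pow_mul, ← pow_mul,
      mul_comm i, mul_comm j, pow_mul, pow_mul, HeFive.powX, HeFive.powY, one_pow, one_pow, one_mul]
  have h2 := orderOf_dvd_of_pow_eq_one h1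
  rw [show orderOf (u * g ^ k * u⁻¹) = 25 from (orderOf_conj u _).trans hy] at h2
  norm_num at h2

/-! ### elements of order 7 -/

theorem exists_seven : ∃ x y : G, orderOf x = 7 ∧ orderOf y = 7 ∧
    Nat.card (centralizer ({x} : Set G)) ≠ Nat.card (centralizer ({y} : Set G)) := by
  have := finG
  obtain ⟨y, hy, hyc⟩ := exists_central (T := G) (p := 7) (k := 3) (by norm_num) (by norm_num) (by rw [cardG]; decide)
  refine ⟨Cfsg.Agent.CpAutHe.Seven.x1, y, Cfsg.Agent.CpAutHe.Seven.order1, hy, fun h => ?_⟩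
  have h1 := Cfsg.Agent.CpAutHe.Bound.card1
  have h2 := Nat.le_of_dvd Nat.card_pos hyc
  rw [← h] at h2
  have h3 := h2.trans h1
  norm_num at h3

/-! ### simple groups -/

theorem ords_he_filter : (o_he.filter fun s => s % 35 == 0 && s % 17 != 0 && s % 49 == 0) = [58800] := by decide

theorem cands_he : ((cands l_he n_he).filter fun g => Nat.beq (ordN g) 58800) = [.psl 2 49] := by decide +kernel

/-- no section of order `58800` -/
theorem no_psl (B : Base) {M : Subgroup G} {K : Subgroup M} [K.Normal] {S : Subgroup (M ⧸ K)} (hS : IsSimpleGroup S)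
    (hna : ¬ ∀ a b : S, a * b = b * a) (hc : Nat.card S = 58800) : False := by
  have := finG
  obtain ⟨g, hg, hr, ho⟩ := exists_good B.table (B.known S hS) hna v_he (by rw [hc]; decide)
  have h1 : g ∈ (cands l_he n_he).filter fun g => Nat.beq (ordN g) 58800 := by
    rw [List.mem_filter]
    exact ⟨hg, by rw [← ho, hc]; rfl⟩
  rw [cands_he, List.mem_singleton] at h1
  subst h1
  obtain ⟨F, i1, i2, hF, ⟨e⟩⟩ := hr
  obtain ⟨x, hx⟩ := Cfsg.Agent.H436.CompOne.exists_add F
  rw [hF] at hx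
  have hx' : orderOf x = 25 := hx.trans (by decide)
  obtain ⟨m, hm⟩ := QuotientGroup.mk_surjective ((e.symm x : S) : M ⧸ K)
  have h2 : orderOf ((e.symm x : S) : M ⧸ K) = 25 := by
    rw [Subgroup.orderOf_coe, MulEquiv.orderOf_eq, hx']
  have h3 : 25 ∣ orderOf m := by
    rw [← h2, ← hm]
    exact orderOf_map_dvd (QuotientGroup.mk' K) m
  exact not_twentyfive (m : G) (by rwa [Subgroup.orderOf_coe])

theorem not_sq (B : Base) {M : Subgroup G} (h5 : 5 ∣ Nat.card M) (h7 : 7 ∣ Nat.card M) (h17 : ¬ 17 ∣ Nat.card M) :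
    ¬ 7 ^ 2 ∣ Nat.card M := by
  have := finG
  intro h49
  have hMG : Nat.card M ∣ n_he := cardG ▸ card_subgroup_dvd_card M
  have key : ∀ {p q k : ℕ}, p.Prime → ¬ p ^ (k + 1) ∣ n_he → (∀ i, 1 ≤ i → i ≤ k → ¬ q ∣ p ^ i - 1) →
      NoOrd p q (Nat.card M) := by
    intro p q k hp h1 h2 i hi hd
    refine h2 i hi ?_
    by_contra hlt
    push Not at hlt
    exact h1 ((pow_dvd_pow p hlt).trans (hd.trans hMG))
  obtain ⟨K, hK, S, hSn, h5K, h7K, hS, hna, h5S, h7S, h5i, h7i, -⟩ := pair_section (X := M) (p := 5) (q := 7)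
    (by norm_num) (by norm_num) (by norm_num)
    (nonAdj_five_seven.of_injective M.subtype M.subtype_injective) h5 h7
    (key (k := 2) (by norm_num) (by decide) (by
      intro i h1 h2
      interval_cases i <;> decide))
    (key (k := 3) (by norm_num) (by decide) (by
      intro i h1 h2
      interval_cases i <;> decide))
  have hc1 := card_mul_index S
  have hc2 : Nat.card M = Nat.card (M ⧸ K) * Nat.card K := Subgroup.card_eq_card_quotient_mul_card_subgroup K
  have hSM : Nat.card S ∣ Nat.card M := by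
    rw [hc2, ← hc1, mul_assoc]
    exact dvd_mul_right _ _
  have h49S : 49 ∣ Nat.card S := by
    have h1 : 7 ^ 2 ∣ Nat.card S * (S.index * Nat.card K) := by
      rw [← mul_assoc, hc1, ← hc2]
      exact h49
    have h2 : Nat.Coprime (7 ^ 2) (S.index * Nat.card K) := by
      refine Nat.Coprime.pow_left _ ((Nat.Prime.coprime_iff_not_dvd (by norm_num)).2 ?_)
      rw [Nat.Prime.dvd_mul (by norm_num)]
      exact fun h => h.elim h7i h7K
    exact h2.dvd_of_dvd_mul_right h1
  have hmem : Nat.card S ∈ o_he := (Cfsg.Agent.H70.RowHe.ctx B).ords S hS hna (hSM.trans hMG)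
  have h35 : 35 ∣ Nat.card S := Nat.Coprime.mul_dvd_of_dvd_of_dvd (by norm_num : Nat.Coprime 5 7) h5S h7S
  have h17S : ¬ 17 ∣ Nat.card S := fun h => h17 (h.trans hSM)
  have hfil : Nat.card S ∈ o_he.filter fun s => s % 35 == 0 && s % 17 != 0 && s % 49 == 0 := by
    rw [List.mem_filter]
    refine ⟨hmem, ?_⟩
    rw [Bool.and_eq_true, Bool.and_eq_true, beq_iff_eq, bne_iff_ne, beq_iff_eq]
    exact ⟨⟨Nat.mod_eq_zero_of_dvd h35, fun h => h17S (Nat.dvd_of_mod_eq_zero h)⟩, Nat.mod_eq_zero_of_dvd h49S⟩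
  rw [ords_he_filter, List.mem_singleton] at hfil
  exact no_psl B hS hna hfil

theorem row_He (B : Base) : Row G := by
  intro M hM
  have c := Cfsg.Agent.H70.RowHe.ctx B
  have := c.fin
  have := c.simple
  obtain ⟨x, y, hx, hy, hxy⟩ := exists_seven
  have hn7 : ¬ SC G 7 := not_SC_of_card (by rw [hx]) (by rw [hy]) hxy
  have h17G : 17 ∣ Nat.card G := by rw [cardG]; decide
  refine Or.inl ((two_or_index' c [7, 17] [] (M := M) (fun v hv h => ?_) ⟨chkHe, by decide, by decide⟩ hM.1).resolve_right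
    List.not_mem_nil)
  simp only [List.mem_cons, List.not_mem_nil, or_false] at hv
  rcases hv with rfl | rfl
  · exact Two.of_not_dvd h hn7
  · by_cases h7 : 7 ∣ Nat.card M
    · by_cases h5 : 5 ∣ Nat.card M
      · exact two_of_class (by norm_num) h17G h (by norm_num) (by norm_num) (not_sq B h5 h7 h) hx hy hxy
      · exact Two.of_two_primes (v := 17) (w := 5) (by norm_num) (by norm_num) (by norm_num) h17G
          (by rw [cardG]; decide) h h5
    · exact Two.of_not_dvd h7 hn7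

end Cfsg.Agent.H51.Der
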