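import Cfsg.Agent.H51.Der.Tools
import Cfsg.Agent.H439.Der.Tools
import Cfsg.Agent.H148.Ru.Row
import Cfsg.Agent.H728.DghpSporB
import Cfsg.Agent.S2077

/-!
# S3500: the Rudvalis group (helper51)
-/

set_option autoImplicit false

namespace Cfsg.Agent.H51.Der

open Cfsg Subgroup Cfsg.Agent.H439.Der Cfsg.Agent.H940.Eng Cfsg.Agent.H940.Eng.D Cfsg.Agent.SporadicB
open Cfsg.Agent.SporadicB.RuOrder (H)

set_option maxRecDepth 100000 in
theorem chkRu_2 : chkV l_ru n_ru [11980800] Cfsg.Agent.H148.Ru.loc o_ru 2 = true := by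
  decide +kernel

set_option maxRecDepth 100000 in
theorem chkRu_3 : chkV l_ru n_ru [11980800] Cfsg.Agent.H148.Ru.loc o_ru 3 = true := by
  decide +kernel

set_option maxRecDepth 100000 in
theorem chkRu_5 : chkV l_ru n_ru [11980800] Cfsg.Agent.H148.Ru.loc o_ru 5 = true := by
  decide +kernel

set_option maxRecDepth 100000 in
theorem chkRu_7 : chkV l_ru n_ru [11980800] Cfsg.Agent.H148.Ru.loc o_ru 7 = true := by
  decide +kernel

set_option maxRecDepth 100000 in
theorem chkRu_13 : chkV l_ru n_ru [11980800] Cfsg.Agent.H148.Ru.loc o_ru 13 = true := by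
  decide +kernel

theorem chkRu : (l_ru.all fun x => ([29] : List ℕ).contains x.1 ||
    chkV l_ru n_ru [11980800] Cfsg.Agent.H148.Ru.loc o_ru x.1) = true := by
  rw [List.all_eq_true]
  intro x hx
  rw [Bool.or_eq_true]
  have hx' : x = (2, 14) ∨ x = (3, 3) ∨ x = (5, 3) ∨ x = (7, 1) ∨ x = (13, 1) ∨ x = (29, 1) := by
    simpa only [l_ru, List.mem_cons, List.not_mem_nil, or_false] using hx
  rcases hx' with rfl | rfl | rfl | rfl | rfl | rfl
  · exact Or.inr chkRu_2
  · exact Or.inr chkRu_3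
  · exact Or.inr chkRu_5
  · exact Or.inr chkRu_7
  · exact Or.inr chkRu_13
  · exact Or.inl (by decide)

universe u

/-- self-centralizing subgroups of prime order with a small normalizer -/
theorem not_SC_of_loc {G : Type u} [Group G] [Finite G] {v n o : ℕ} {fN : List (ℕ × ℕ)} (hl : Loc G ⟨v, v, fN⟩)
    (hN : Cfsg.Agent.OrdDiv.prodl fN ≤ n * v) (hd : v ∣ Nat.card G) (hO : Nat.card (Cfsg.Out G) ≤ o) (h : o * n < v - 1) :
    ¬ SC G v := by
  obtain ⟨hp, hpN, -, hR⟩ := hl
  have := Fact.mk hp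
  obtain ⟨x, hx⟩ := exists_prime_orderOf_dvd_card' v hd
  obtain ⟨h1, h2⟩ := hR (zpowers x) (by rw [Nat.card_zpowers, hx])
  have h3 : centralizer ((zpowers x : Subgroup G) : Set G) = centralizer ({x} : Set G) := by
    rw [zpowers_eq_closure, Subgroup.centralizer_closure]
  rw [h3] at h1
  have h4 : v ∣ Nat.card (centralizer ({x} : Set G)) := by
    have h5 : orderOf (⟨x, mem_centralizer_singleton_iff.2 rfl⟩ : centralizer ({x} : Set G)) = v := by
      rw [Subgroup.orderOf_mk, hx]
    rw [← h5]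
    exact orderOf_dvd_natCard _
  have h6 : Nat.card (centralizer ({x} : Set G)) = v := Nat.dvd_antisymm h1 h4
  refine not_SC_of_lt hp hx h6 ((Nat.le_of_dvd ?_ h2).trans hN) hO h
  exact Cfsg.Agent.H940.Eng.prodl_pos hpN

theorem row_Ru (B : Base) : Row H := by
  intro M hM
  have c := Cfsg.Agent.H148.Ru.ctx B
  have := c.fin
  have := c.simple
  refine Or.inl ?_
  have h29 : ¬ SC H 29 := by
    refine not_SC_of_loc (fN := [(2, 1), (7, 1), (29, 1)]) (n := 14) (o := 1) (c.loc _ (by simp [Cfsg.Agent.H148.Ru.loc]))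
      (by decide) (by rw [c.card]; decide) ?_ (by norm_num)
    rw [card_out_congr Cfsg.Agent.RuLat.Main.equiv.symm]
    exact Cfsg.Agent.S2077.result.le
  rcases two_or_index c [29] [11980800] (fun v hv => by rw [List.mem_singleton.1 hv]; exact h29)
    ⟨chkRu, by decide, by decide⟩ M hM.1 with h1 | h1
  · exact h1
  rw [List.mem_singleton] at h1
  have h2 := card_mul_index M
  rw [c.card, h1, show n_ru = 12180 * 11980800 by decide] at h2
  have h6 : Nat.card M = 12180 := Nat.eq_of_mul_eq_mul_right (by norm_num) h2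
  obtain ⟨y, k, hk⟩ := Cfsg.Agent.H728.DghpSporB.exists_eight_H
  have hk0 : k ≠ 0 := by
    rintro rfl
    exact (orderOf_pos y).ne' (by rw [hk, mul_zero])
  have hy : orderOf (y ^ k) = 8 := by
    rw [orderOf_pow_of_dvd hk0 (by rw [hk]; exact dvd_mul_left _ _), hk, Nat.mul_div_cancel _ (Nat.pos_of_ne_zero hk0)]
  exact two_of_order (v := 13) (a := 8) (by norm_num) (by rw [c.card]; decide) (by rw [h6]; decide)
    hy (by norm_num) (by rw [h6]; decide)

end Cfsg.Agent.H51.Der
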