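import Cfsg.Agent.H51.Der.Tools
import Cfsg.Agent.H940.RowJ4

/-!
# S3500: the fourth Janko group (helper51)
-/

set_option autoImplicit false

namespace Cfsg.Agent.H51.Der

open Cfsg Cfsg.Agent.H439.Der Cfsg.Agent.H940.Eng Cfsg.Agent.H940.Eng.D

set_option maxRecDepth 100000 in
theorem chkJ4 : (l_j4.all fun x => ([] : List ℕ).contains x.1 || chkV l_j4 n_j4 [] Cfsg.Agent.H940.RowJ4.loc o_j4 x.1) = true := by
  decide +kernel

theorem row_J4 (B : Base) : Row Spor.J4 := fun M hM =>
  (two_or_index (Cfsg.Agent.H940.RowJ4.ctx B) [] [] (fun v hv => absurd hv List.not_mem_nil)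
    ⟨chkJ4, by decide, by decide⟩ M hM.1).elim Or.inl fun h => absurd h List.not_mem_nil

end Cfsg.Agent.H51.Der
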