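import Cfsg.Agent.H51.Der.JTwo
import Cfsg.Agent.H51.Der.J3
import Cfsg.Agent.H51.Der.J4
import Cfsg.Agent.H51.Der.ON
import Cfsg.Agent.H51.Der.Ru
import Cfsg.Agent.H51.Der.He
import Cfsg.Agent.OrdDiv.Table
import Cfsg.Agent.S0000

/-!
# S3500, SPOR-B: `J2`, `J3`, `J4`, `O'N`, `Ru`, `He` (helper51)
-/

set_option autoImplicit false

namespace Cfsg.Agent.H51.Der

open Cfsg Cfsg.Agent.H439.Der Cfsg.Agent.H940.Eng Cfsg.Agent.H940.Eng.D

universe u

theorem base : Base := ⟨Cfsg.Agent.OrdDiv.table, fun S _ _ h => by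
  haveI := h
  exact Cfsg.Agent.S0000.result (G := S)⟩

variable {T : Type u} [Group T]

theorem row_j2 (h : Spor.IsoJ2 T) : Row T := by
  obtain ⟨e⟩ := h
  exact Row.congr e.symm (JTwo.row_J2 base ⟨MulEquiv.refl _⟩)

theorem rowS_j2 (h : Spor.IsoJ2 T) : RowS T := by
  obtain ⟨e⟩ := h
  exact RowS.congr e.symm (JTwo.rowS_J2 base ⟨MulEquiv.refl _⟩)

theorem row_j3 (h : Spor.IsoJ3 T) : Row T := by
  obtain ⟨F, i1, i2, ω, hF, hω, ⟨e⟩⟩ := h
  exact Row.congr e.symm (row_J3 base ⟨F, i1, i2, ω, hF, hω, ⟨MulEquiv.refl _⟩⟩)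

theorem row_j4 (h : Spor.IsoJ4 T) : Row T := by
  obtain ⟨e⟩ := h
  exact Row.congr e.symm (row_J4 base)

theorem row_on (h : Spor.IsoON T) : Row T := by
  obtain ⟨e⟩ := h
  exact Row.congr e.symm (row_ON base)

theorem row_ru (h : Spor.IsoRu T) : Row T := by
  obtain ⟨e⟩ := h
  exact Row.congr ((Cfsg.Agent.RuLat.Main.equiv.symm).trans e.symm) (row_Ru base)

theorem row_he (h : Spor.IsoHe T) : Row T := by
  obtain ⟨e⟩ := h
  exact Row.congr e.symm (row_He base)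

end Cfsg.Agent.H51.Der
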