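import Cfsg.Agent.H51.Der.JTwoGrp
import Cfsg.Agent.H439.Der.Three
import Cfsg.Agent.H395.PFJ2Row
import Cfsg.Agent.H715.Fpr.J2

/-!
# S3500, S3502: the second Janko group (helper51)

`three_J2` : every proper subgroup of `J2` misses three `Aut`-classes.
-/

set_option autoImplicit false

namespace Cfsg.Agent.H51.Der.JTwo

open Subgroup Cfsg Cfsg.Agent.J2Type.Base Cfsg.Agent.H439.Der Cfsg.Agent.H938.Sax

/-! ### a missing prime and a missing class of elements of prime order -/

theorem three_of_class {T : Type*} [Group T] [Finite T] {M : Subgroup T} {v p q : ℕ} (hv : v.Prime) (hvT : v ∣ Nat.card T)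
    (hvM : ¬ v ∣ Nat.card M) (hp : p.Prime) (hq : q.Prime) (hvp : v ≠ p) (hpq : p ≠ q) (hM : ¬ p ^ 2 ∣ Nat.card M) {x y : T}
    (hx : orderOf x = p) (hy : orderOf y = p)
    (hxy : Nat.card (centralizer ({x} : Set T)) ≠ Nat.card (centralizer ({y} : Set T)))
    (hxq : q ∣ Nat.card (centralizer ({x} : Set T))) (hyq : q ∣ Nat.card (centralizer ({y} : Set T))) : Three T M := by
  have := Fact.mk hv
  have := Fact.mk hq
  obtain ⟨z, hz⟩ := exists_prime_orderOf_dvd_card' v hvT
  have h1 : ∀ φ : T ≃* T, φ z ∉ M := not_mem_of_dvd hvM (by rw [hz])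
  have key : ∀ w : T, orderOf w = p → (∀ φ : T ≃* T, φ w ∉ M) → q ∣ Nat.card (centralizer ({w} : Set T)) → Three T M := by
    intro w hw hwM hwq
    obtain ⟨⟨t, ht⟩, hto⟩ := exists_prime_orderOf_dvd_card' (G := centralizer ({w} : Set T)) q hwq
    rw [Subgroup.orderOf_mk] at hto
    have hc : Commute w t := (mem_centralizer_singleton_iff.1 ht).symm
    have hco : (orderOf w).Coprime (orderOf t) := by
      rw [hw, hto]
      exact (Nat.coprime_primes hp hq).2 hpq
    have ho : orderOf (w * t) = p * q := by rw [hc.orderOf_mul_eq_mul_orderOf_of_coprime hco, hw, hto]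
    have hwt : w ∈ zpowers (w * t) := by
      have h2 : (w * t) ^ q = w ^ q := by
        rw [hc.mul_pow, ← hto, pow_orderOf_eq_one, mul_one]
      have h3 : zpowers (w ^ q) = zpowers w := by
        refine eq_of_le_of_card_ge (zpowers_le.2 (npow_mem_zpowers w q)) ?_
        rw [Nat.card_zpowers, Nat.card_zpowers, Nat.Coprime.orderOf_pow (hto ▸ hco)]
      have h4 : w ∈ zpowers (w ^ q) := by
        rw [h3]
        exact mem_zpowers w
      exact (zpowers_le.2 (h2 ▸ npow_mem_zpowers (w * t) q)) h4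
    refine ⟨z, w, w * t, h1, hwM, fun φ hφ => hwM φ ?_, fun φ hφ => hvp ?_, fun φ hφ => ?_, fun φ hφ => ?_⟩
    · obtain ⟨k, hk⟩ := mem_zpowers_iff.1 hwt
      rw [← hk, map_zpow]
      exact M.zpow_mem hφ k
    · rw [← hz, ← hw, ← hφ, orderOf_mulEquiv]
    · have h2 : v = p * q := by rw [← hz, ← ho, ← hφ, orderOf_mulEquiv]
      rw [h2] at hv
      exact Nat.not_prime_mul hp.one_lt.ne' hq.one_lt.ne' hv
    · have h2 : p = p * q := by
        have h5 := orderOf_mulEquiv φ w
        rw [hφ, ho, hw] at h5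
        exact h5.symm
      have h3 : q = 1 := by
        have h4 : p * 1 = p * q := by rw [mul_one]; exact h2
        exact (Nat.eq_of_mul_eq_mul_left hp.pos h4).symm
      exact hq.one_lt.ne' h3
  rcases class_missing hp hM hx hy hxy with h | h
  · exact key x hx h hxq
  · exact key y hy h hyq

/-! ### facts from the fusion data -/

section fus

variable {G : Type*} [Group G] [Finite G] {z u : G}

theorem five (h : Fus z u) : ∃ x y : G, orderOf x = 5 ∧ orderOf y = 5 ∧ Nat.card (centralizer ({x} : Set G)) = 300 ∧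
    ¬ 4 ∣ Nat.card (centralizer ({y} : Set G)) ∧ ¬ 3 ∣ Nat.card (centralizer ({y} : Set G)) ∧
    2 ∣ Nat.card (centralizer ({y} : Set G)) ∧ ∀ w : G, orderOf w = 5 →
      Nat.card (centralizer ({w} : Set G)) = Nat.card (centralizer ({x} : Set G)) ∨
      Nat.card (centralizer ({w} : Set G)) = Nat.card (centralizer ({y} : Set G)) := by
  have hG := J2Type.Order.card_of_fus h
  obtain ⟨f, U, V, H0, F⟩ := J2Type.CentU.main h
  have h60 := J2Type.ThreeA.card_H0 h F
  have : Fact (Nat.Prime 5) := ⟨by norm_num⟩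
  obtain ⟨⟨x, hxH⟩, hx⟩ := exists_prime_orderOf_dvd_card' (G := H0) 5 (by rw [h60]; norm_num)
  rw [Subgroup.orderOf_mk] at hx
  obtain ⟨y, hy, hyz⟩ := J2Type.ThreeD.exists_w0 h
  have h4 := J2Type.FiveFus.not_four_dvd h hy hyz
  obtain ⟨-, hcl⟩ := J2Type.ThreeC.five_data hG (J2Type.Cent5.good_of_mem h F h60 hxH hx) hy
    (J2Type.FiveFus.real_of_comm h hy hyz) h4
  refine ⟨x, y, hx, hy, J2Type.Cent5.card_centralizer_five h F h60 hG hxH hx, h4, J2Type.ThreeD.not_three_dvd h hy hyz,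
    ?_, fun w hw => ?_⟩
  · have h1 : orderOf (⟨z, mem_centralizer_singleton_iff.2 hyz.symm⟩ : centralizer ({y} : Set G)) = 2 := by
      rw [Subgroup.orderOf_mk]
      exact h.hz
    rw [← h1]
    exact orderOf_dvd_natCard _
  · rcases hcl w hw with h1 | h1 | h1 | h1
    · exact Or.inl (J2Type.Cent5.card_centralizer_of_isConj h1).symm
    · refine Or.inl ?_
      rw [← J2Type.SylowFive.centralizer_sq hx]
      exact (J2Type.Cent5.card_centralizer_of_isConj h1).symm
    · exact Or.inr (J2Type.Cent5.card_centralizer_of_isConj h1).symm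
    · refine Or.inr ?_
      rw [← J2Type.SylowFive.centralizer_sq hy]
      exact (J2Type.Cent5.card_centralizer_of_isConj h1).symm

theorem cent_five (h : Fus z u) {y : G} (hy : orderOf y = 5) :
    ¬ 8 ∣ Nat.card (centralizer ({y} : Set G)) ∧ ¬ 9 ∣ Nat.card (centralizer ({y} : Set G)) := by
  obtain ⟨a, b, -, -, ha, hb4, hb3, -, hcl⟩ := five h
  rcases hcl y hy with h1 | h1
  · rw [h1, ha]
    norm_num
  · rw [h1]
    exact ⟨fun h2 => hb4 ((by norm_num : 4 ∣ 8).trans h2), fun h2 => hb3 ((by norm_num : 3 ∣ 9).trans h2)⟩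

theorem sylow_five (h : Fus z u) (P : Sylow 5 G) : centralizer ((P : Subgroup G) : Set G) = P :=
  (J2Type.FiveFus.sylow_five h P).1

/-- commuting elements of order 3 with centralizers of order divisible by 5 -/
theorem pair (h : Fus z u) {x y a b : G} (hx : orderOf x = 3) (hy : orderOf y = 3) (ha : orderOf a = 5)
    (hb : orderOf b = 5) (hxy : Commute x y) (hxa : Commute x a) (hyb : Commute y b) : y ∈ zpowers x := by
  have : Fact (Nat.Prime 3) := ⟨by norm_num⟩
  obtain ⟨f, U, V, H0, F⟩ := J2Type.CentU.main h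
  obtain ⟨d, hd, hdV, hdH⟩ := J2Type.ThreeA.exists_d h F
  obtain ⟨P, hPd, hfP, hdP⟩ := J2Type.ThreeF.exists_sylow h F hd hdH
  have hcl := (J2Type.ThreeF.card_normalizer h F hd hdV hdH hPd hfP hdP).2
  have hf := J2Type.ThreeD.card_centralizer_f h F hd hdH
  obtain ⟨Q, hQ⟩ := (H395.PF.isPGroup_sup hx hy hxy).exists_le_sylow
  obtain ⟨g, hg⟩ := MulAction.exists_smul_eq G Q P
  have hgP : ∀ x ∈ (Q : Subgroup G), MulAut.conj g x ∈ (P : Subgroup G) := by
    intro x hx
    rw [← hg]
    exact ⟨x, hx, rfl⟩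
  have key : ∀ {w c : G}, w ∈ (Q : Subgroup G) → orderOf c = 5 → Commute w c → MulAut.conj g w ∈ zpowers d := by
    intro w c hw hc hwc
    by_contra hn
    have h1 := hcl _ (hgP w hw) hn
    have h2 : IsConj w (MulAut.conj g w) := isConj_iff.2 ⟨g, rfl⟩
    have h3 := J2Type.Cent5.card_centralizer_of_isConj (h1.trans h2.symm)
    rw [hf] at h3
    have h4 : orderOf (⟨c, mem_centralizer_singleton_iff.2 hwc.symm.eq⟩ : centralizer ({w} : Set G)) = 5 := by
      rw [Subgroup.orderOf_mk, hc]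
    have h5 : 5 ∣ Nat.card (centralizer ({w} : Set G)) := by
      rw [← h4]
      exact orderOf_dvd_natCard _
    rw [← h3] at h5
    norm_num at h5
  have h1 := key (hQ ((le_sup_left : zpowers x ≤ _) (mem_zpowers x))) ha hxa
  have h2 := key (hQ ((le_sup_right : zpowers y ≤ _) (mem_zpowers y))) hb hyb
  have h3 : zpowers (MulAut.conj g x) = zpowers d := by
    refine eq_of_le_of_card_ge (zpowers_le.2 h1) ?_
    rw [Nat.card_zpowers, Nat.card_zpowers, MulEquiv.orderOf_eq, hx, hd]
  rw [← h3] at h2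
  obtain ⟨k, hk⟩ := mem_zpowers_iff.1 h2
  rw [← map_zpow] at hk
  exact mem_zpowers_iff.2 ⟨k, (MulAut.conj g).injective hk⟩

/-- no subgroup of order divisible by `225` and prime to `7` -/
theorem not_225 (h : Fus z u) (hord : ∀ S : Subgroup G, ∀ R : Subgroup S, IsSimpleGroup R → (¬ ∀ a b : R, a * b = b * a) →
      ¬ 7 ∣ Nat.card R → Nat.card R = 60 ∨ Nat.card R = 360) {M : Subgroup G} (h25 : 25 ∣ Nat.card M)
    (h9 : 9 ∣ Nat.card M) : 7 ∣ Nat.card M := by
  by_contra h7
  have hG := J2Type.Order.card_of_fus h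
  have f5 : Fact (Nat.Prime 5) := ⟨by norm_num⟩
  have hle : ∀ y : M, Nat.card (centralizer ({y} : Set M)) ∣ Nat.card (centralizer ({(y : G)} : Set G)) := by
    intro y
    rw [← card_map_of_injective M.subtype_injective]
    refine card_dvd_of_le ?_
    rintro _ ⟨g, hg, rfl⟩
    exact mem_centralizer_singleton_iff.2 (congrArg Subtype.val (mem_centralizer_singleton_iff.1 hg))
  refine Hyp.false (X := M) ⟨?_, h25, h9, fun P => ?_, fun y hy h1 => ?_, fun y hy h1 => ?_, ?_, fun S hS hna => ?_⟩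
  · have h1 : Nat.card M ∣ 86400 * 7 := by
      rw [show 86400 * 7 = 604800 by norm_num, ← hG]
      exact card_subgroup_dvd_card M
    exact ((Nat.Prime.coprime_iff_not_dvd (by norm_num)).2 h7).symm.dvd_of_dvd_mul_right h1
  · -- the Sylow subgroup of `M` is one of `G`
    obtain ⟨k, hk⟩ := IsPGroup.iff_card.1 P.2
    have h1 : 5 ^ 2 ∣ Nat.card (P : Subgroup M) := P.pow_dvd_card_of_pow_dvd_card h25
    have hPG : IsPGroup 5 ((P : Subgroup M).map M.subtype) := P.2.map _
    obtain ⟨Q, hQ⟩ := hPG.exists_le_sylow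
    have h2 : (P : Subgroup M).map M.subtype = (Q : Subgroup G) := by
      refine eq_of_le_of_card_ge hQ ?_
      rw [J2Type.SylowFive.card_sylow_five hG Q, card_map_of_injective M.subtype_injective]
      exact Nat.le_of_dvd Nat.card_pos h1
    intro g hg
    have h3 : (g : G) ∈ centralizer ((Q : Subgroup G) : Set G) := by
      rw [mem_centralizer_iff]
      intro w hw
      have hw' : w ∈ (Q : Subgroup G) := hw
      rw [← h2] at hw'
      obtain ⟨v, hv, rfl⟩ := hw'
      exact congrArg Subtype.val (mem_centralizer_iff.1 hg v hv)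
    rw [sylow_five h Q, ← h2] at h3
    obtain ⟨v, hv, hv'⟩ := h3
    rwa [← M.subtype_injective hv']
  · exact (cent_five h (y := (y : G)) (by rw [Subgroup.orderOf_coe, hy])).1
      ((by norm_num : 8 ∣ 16).trans (h1.trans (hle y)))
  · exact (cent_five h (y := (y : G)) (by rw [Subgroup.orderOf_coe, hy])).2 (h1.trans (hle y))
  · intro x y a b hx hy ha hb hxy hxa hyb
    have h1 := pair h (x := (x : G)) (y := (y : G)) (a := (a : G)) (b := (b : G)) (by rw [Subgroup.orderOf_coe, hx])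
      (by rw [Subgroup.orderOf_coe, hy]) (by rw [Subgroup.orderOf_coe, ha]) (by rw [Subgroup.orderOf_coe, hb])
      (hxy.map M.subtype) (hxa.map M.subtype) (hyb.map M.subtype)
    obtain ⟨k, hk⟩ := mem_zpowers_iff.1 h1
    exact mem_zpowers_iff.2 ⟨k, Subtype.ext (by rw [Subgroup.coe_zpow]; exact hk)⟩
  · exact hord M S hS hna fun h1 => h7 (h1.trans (card_subgroup_dvd_card S))

theorem exists_ord (h : Fus z u) : (∃ x : G, orderOf x = 6) ∧ (∃ x : G, orderOf x = 10) ∧ ∃ x : G, orderOf x = 15 := by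
  have key : ∀ {p q : ℕ} {w : G}, p.Prime → q.Prime → p ≠ q → orderOf w = p →
      q ∣ Nat.card (centralizer ({w} : Set G)) → ∃ x : G, orderOf x = p * q := by
    intro p q w hp hq hpq hw hwq
    have := Fact.mk hq
    obtain ⟨⟨t, ht⟩, hto⟩ := exists_prime_orderOf_dvd_card' (G := centralizer ({w} : Set G)) q hwq
    rw [Subgroup.orderOf_mk] at hto
    have hc : Commute w t := (mem_centralizer_singleton_iff.1 ht).symm
    refine ⟨w * t, ?_⟩
    rw [hc.orderOf_mul_eq_mul_orderOf_of_coprime (by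
      rw [hw, hto]
      exact (Nat.coprime_primes hp hq).2 hpq), hw, hto]
  obtain ⟨a, b, ha, hb, hca, hcb, -⟩ := J2Type.ThreeF.main h
  obtain ⟨x, y, hx, hy, hcx, -⟩ := five h
  refine ⟨?_, ?_, ?_⟩
  · exact key (p := 3) (q := 2) (by norm_num) (by norm_num) (by norm_num) ha (by rw [hca]; norm_num)
  · exact key (p := 5) (q := 2) (by norm_num) (by norm_num) (by norm_num) hx (by rw [hcx]; norm_num)
  · exact key (p := 3) (q := 5) (by norm_num) (by norm_num) (by norm_num) ha (by rw [hca]; norm_num)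

end fus

/-! ### the row -/

open Cfsg.Agent.H940.Eng Cfsg.Agent.H940.Eng.D

theorem ords_j2_filter : (o_j2.filter fun s => s % 7 != 0) = [60, 360] := by decide

/-- **every proper subgroup of `J2` misses three classes** -/
theorem three_J2 (B : Base) {T : Type} [Group T] (h : Spor.IsoJ2 T) {M : Subgroup T} (hM : M ≠ ⊤) : Three T M := by
  have c := Cfsg.Agent.H715.Fpr.J2.ctx B h
  have := c.fin
  have hc : Nat.card T = 604800 := c.card
  obtain ⟨z, u, F⟩ := Cfsg.Agent.H715.Fpr.J2.fus h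
  obtain ⟨v, hv, hvT, hvM⟩ := Cfsg.Agent.H395.PF.miss_j2 B.table (fun X _ _ hX => B.known X hX) h hM
  obtain ⟨⟨x6, h6⟩, ⟨x10, h10⟩, ⟨x15, h15⟩⟩ := exists_ord F
  have hvl : v = 2 ∨ v = 3 ∨ v = 5 ∨ v = 7 := by
    rw [hc, show 604800 = 2 ^ 7 * 3 ^ 3 * 5 ^ 2 * 7 by norm_num] at hvT
    rcases (Nat.Prime.dvd_mul hv).1 hvT with h1 | h1
    · rcases (Nat.Prime.dvd_mul hv).1 h1 with h2 | h2
      · rcases (Nat.Prime.dvd_mul hv).1 h2 with h3 | h3
        · exact Or.inl ((Nat.prime_dvd_prime_iff_eq hv (by norm_num)).1 (hv.dvd_of_dvd_pow h3))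
        · exact Or.inr (Or.inl ((Nat.prime_dvd_prime_iff_eq hv (by norm_num)).1 (hv.dvd_of_dvd_pow h3)))
      · exact Or.inr (Or.inr (Or.inl ((Nat.prime_dvd_prime_iff_eq hv (by norm_num)).1 (hv.dvd_of_dvd_pow h2))))
    · exact Or.inr (Or.inr (Or.inr ((Nat.prime_dvd_prime_iff_eq hv (by norm_num)).1 h1)))
  obtain ⟨x, y, hx, hy, hcx, hcy4, hcy3, hcy2, -⟩ := five F
  have hSCC : ∀ w : ℕ, w = 2 ∨ w = 3 ∨ w = 5 → ¬ SCC T w := by
    have f2 : Fact (Nat.Prime 2) := ⟨by norm_num⟩
    have f3 : Fact (Nat.Prime 3) := ⟨by norm_num⟩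
    obtain ⟨x2, h2⟩ := exists_prime_orderOf_dvd_card' (G := T) 2 (by rw [hc]; norm_num)
    obtain ⟨x3, h3⟩ := exists_prime_orderOf_dvd_card' (G := T) 3 (by rw [hc]; norm_num)
    rintro w (rfl | rfl | rfl)
    · exact not_SCC_of_orders (x := x2) (y := x6) (z := x10) (by rw [h2]) (by rw [h6]; norm_num) (by rw [h10]; norm_num)
        (by rw [h2, h6]; norm_num) (by rw [h2, h10]; norm_num) (by rw [h6, h10]; norm_num)
    · exact not_SCC_of_orders (x := x3) (y := x6) (z := x15) (by rw [h3]) (by rw [h6]; norm_num) (by rw [h15]; norm_num)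
        (by rw [h3, h6]; norm_num) (by rw [h3, h15]; norm_num) (by rw [h6, h15]; norm_num)
    · exact not_SCC_of_orders (x := x) (y := x10) (z := x15) (by rw [hx]) (by rw [h10]; norm_num) (by rw [h15]; norm_num)
        (by rw [hx, h10]; norm_num) (by rw [hx, h15]; norm_num) (by rw [h10, h15]; norm_num)
  have hmiss : ∀ w : ℕ, w = 2 ∨ w = 3 ∨ w = 5 → ¬ w ∣ Nat.card M → Three T M := by
    intro w hw hwM
    refine Three.of_not_dvd hwM (hSCC w hw) ?_
    have hwp : w.Prime := by rcases hw with rfl | rfl | rfl <;> norm_num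
    have := Fact.mk hwp
    obtain ⟨t, ht⟩ := exists_prime_orderOf_dvd_card' (G := T) w (by rw [hc]; rcases hw with rfl | rfl | rfl <;> norm_num)
    exact ⟨t, by rw [ht]⟩
  by_cases hall : 2 ∣ Nat.card M ∧ 3 ∣ Nat.card M ∧ 5 ∣ Nat.card M
  swap
  · by_cases h2 : 2 ∣ Nat.card M
    · by_cases h3 : 3 ∣ Nat.card M
      · exact hmiss 5 (by simp) fun h5 => hall ⟨h2, h3, h5⟩
      · exact hmiss 3 (by simp) h3
    · exact hmiss 2 (by simp) h2
  have hv7 : v = 7 := by
    rcases hvl with rfl | rfl | rfl | rfl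
    · exact absurd hall.1 hvM
    · exact absurd hall.2.1 hvM
    · exact absurd hall.2.2 hvM
    · rfl
  subst hv7
  by_cases h25 : 5 ^ 2 ∣ Nat.card M
  · by_cases h9 : 3 ^ 2 ∣ Nat.card M
    · exfalso
      refine hvM (not_225 F (fun S R hR hna h7 => ?_) h25 h9)
      have h1 : Nat.card R ∈ o_j2 := c.ords R hR hna (((card_subgroup_dvd_card R).trans (card_subgroup_dvd_card S)).trans
        (by rw [c.card]))
      have h2 : Nat.card R ∈ o_j2.filter fun s => s % 7 != 0 := by
        rw [List.mem_filter, bne_iff_ne]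
        exact ⟨h1, fun h3 => h7 (Nat.dvd_of_mod_eq_zero h3)⟩
      rw [ords_j2_filter] at h2
      simpa using h2
    · obtain ⟨a, b, ha, hb, hca, hcb, -⟩ := J2Type.ThreeF.main F
      exact three_of_class (v := 7) (p := 3) (q := 2) hv hvT hvM (by norm_num) (by norm_num) (by norm_num) (by norm_num) h9
        ha hb (by rw [hca, hcb]; norm_num) (by rw [hca]; norm_num) (by rw [hcb]; norm_num)
  · exact three_of_class (v := 7) (p := 5) (q := 2) hv hvT hvM (by norm_num) (by norm_num) (by norm_num) (by norm_num) h25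
      hx hy (fun he => hcy4 (by rw [← he, hcx]; norm_num)) (by rw [hcx]; norm_num) hcy2

theorem rowS_J2 (B : Base) {T : Type} [Group T] (h : Spor.IsoJ2 T) : RowS T := by
  have := (Cfsg.Agent.H715.Fpr.J2.ctx B h).fin
  exact RowS.of_three fun M hM => three_J2 B h hM.1

theorem row_J2 (B : Base) {T : Type} [Group T] (h : Spor.IsoJ2 T) : Row T := (rowS_J2 B h).row

end Cfsg.Agent.H51.Der.JTwo
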