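import Cfsg.Agent.H51.Der.Tools
import Cfsg.Agent.Lib.MinNormal
import Cfsg.Agent.Lib.SubnormalJoin
import Cfsg.Agent.SmallSimple.BurnsideNC
import Cfsg.Agent.S0494
import Cfsg.Agent.H824.ProdLem
import Cfsg.Agent.S0497
import Cfsg.Agent.S2119

/-!
# S3500, the second Janko group: subgroups of order divisible by `225` (helper51)
-/

set_option autoImplicit false

namespace Cfsg.Agent.H51.Der.JTwo

open Subgroup

universe u

/-! ### general lemmas -/

/-- fixed points of a `p`-subgroup -/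
theorem card_fix {G : Type*} [Group G] [Finite G] {p : ℕ} [Fact p.Prime] {Q U : Subgroup G} (hQ : IsPGroup p Q)
    (hn : Q ≤ normalizer (U : Set G)) : Nat.card U ≡ Nat.card ↥(U ⊓ centralizer (Q : Set G)) [MOD p] := by
  classical
  let act : MulAction Q U :=
    { smul := fun g u => ⟨(g : G) * u * (g : G)⁻¹, (Subgroup.mem_normalizer_iff.1 (hn g.2) u).1 u.2⟩
      one_smul := fun u => Subtype.ext (by
        show ((1 : Q) : G) * (u : G) * ((1 : Q) : G)⁻¹ = u
        simp)
      mul_smul := fun g h u => Subtype.ext (by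
        show ((g * h : Q) : G) * (u : G) * ((g * h : Q) : G)⁻¹ =
          (g : G) * ((h : G) * u * (h : G)⁻¹) * (g : G)⁻¹
        rw [Subgroup.coe_mul]
        group) }
  refine (hQ.card_modEq_card_fixedPoints U).trans ?_
  have h2 : Nat.card (MulAction.fixedPoints Q U) = Nat.card ↥(U ⊓ centralizer (Q : Set G)) := by
    refine Nat.card_congr
      { toFun := fun c => ⟨((c : U) : G), (c : U).2, ?_⟩
        invFun := fun c => ⟨⟨c, c.2.1⟩, ?_⟩
        left_inv := fun c => rfl
        right_inv := fun c => rfl }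
    · show ((c : U) : G) ∈ centralizer (Q : Set G)
      rw [mem_centralizer_iff]
      intro g hg
      have h3 := c.2 ⟨g, hg⟩
      have h4 : g * ((c : U) : G) * g⁻¹ = ((c : U) : G) := congrArg Subtype.val h3
      exact mul_inv_eq_iff_eq_mul.1 h4
    · rintro ⟨g, hg⟩
      apply Subtype.ext
      show g * (c : G) * g⁻¹ = c
      rw [mul_inv_eq_iff_eq_mul]
      exact (mem_centralizer_iff.1 c.2.2) g hg
  rw [h2]

/-- a fixed point free action -/
theorem dvd_of_free {G : Type*} [Group G] [Finite G] {Q U : Subgroup G} (hn : Q ≤ normalizer (U : Set G))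
    (hfix : ∀ a ∈ Q, a ≠ 1 → ∀ u ∈ U, a * u = u * a → u = 1) : Nat.card Q ∣ Nat.card U - 1 := by
  classical
  let act : MulAction ↥Q {u : ↥U // u ≠ 1} :=
    { smul := fun g u => ⟨⟨(g : G) * ((u : ↥U) : G) * (g : G)⁻¹,
        (Subgroup.mem_normalizer_iff.1 (hn g.2) (u : ↥U)).1 (u : ↥U).2⟩, by
        intro h
        apply u.2
        apply Subtype.ext
        exact conj_eq_one_iff.1 (congrArg Subtype.val h)⟩
      one_smul := fun u => Subtype.ext (Subtype.ext (by
        show ((1 : ↥Q) : G) * ((u : ↥U) : G) * ((1 : ↥Q) : G)⁻¹ = ((u : ↥U) : G)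
        simp))
      mul_smul := fun g h u => Subtype.ext (Subtype.ext (by
        show ((g * h : ↥Q) : G) * ((u : ↥U) : G) * ((g * h : ↥Q) : G)⁻¹ =
          (g : G) * ((h : G) * ((u : ↥U) : G) * (h : G)⁻¹) * (g : G)⁻¹
        rw [Subgroup.coe_mul]
        group)) }
  have hst : ∀ c : {u : ↥U // u ≠ 1}, MulAction.stabilizer Q c = ⊥ := by
    intro c
    rw [eq_bot_iff]
    rintro ⟨g, hg⟩ hgc
    rw [MulAction.mem_stabilizer_iff] at hgc
    have h1 : g * ((c : ↥U) : G) * g⁻¹ = ((c : ↥U) : G) := congrArg (fun w : {u : ↥U // u ≠ 1} => ((w : ↥U) : G)) hgc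
    rw [mem_bot]
    apply Subtype.ext
    by_contra hg1
    exact c.2 (Subtype.ext (hfix g hg hg1 _ (c : ↥U).2 (mul_inv_eq_iff_eq_mul.1 h1)))
  have h1 : Nat.card {u : ↥U // u ≠ 1} = Nat.card U - 1 := by
    have := Fintype.ofFinite U
    rw [Nat.card_eq_fintype_card, Nat.card_eq_fintype_card, Fintype.card_subtype_compl, Fintype.card_subtype_eq]
  rw [← h1]
  have h2 : ∀ ω : MulAction.orbitRel.Quotient Q {u : ↥U // u ≠ 1}, Nat.card ω.orbit = Nat.card Q := by
    intro ω
    induction ω using Quotient.inductionOn' with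
    | h c =>
      have h3 : MulAction.orbitRel.Quotient.orbit (Quotient.mk'' c : MulAction.orbitRel.Quotient Q {u : ↥U // u ≠ 1}) =
          MulAction.orbit Q c := rfl
      rw [h3, Nat.card_congr (MulAction.orbitEquivQuotientStabilizer Q c), hst c]
      exact (Subgroup.index_bot (G := Q))
  have := Fintype.ofFinite (MulAction.orbitRel.Quotient Q {u : ↥U // u ≠ 1})
  rw [Nat.card_congr (MulAction.selfEquivSigmaOrbits' Q {u : ↥U // u ≠ 1}), Nat.card_sigma]
  exact Finset.dvd_sum fun ω _ => (h2 ω) ▸ dvd_rfl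

theorem card_dvd_aut {X : Type*} [Group X] [Finite X] (N : Subgroup X) [N.Normal] :
    Nat.card X ∣ Nat.card (centralizer (N : Set X)) * Nat.card (MulAut N) := by
  have h1 : (MulAut.conjNormal : X →* MulAut N).ker ≤ centralizer (N : Set X) := by
    intro g hg
    rw [mem_centralizer_iff]
    intro n hn
    have h2 : MulAut.conjNormal g ⟨n, hn⟩ = (⟨n, hn⟩ : N) := by
      rw [MonoidHom.mem_ker.1 hg]
      rfl
    have h3 := congrArg Subtype.val h2
    rw [MulAut.conjNormal_apply] at h3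
    exact (mul_inv_eq_iff_eq_mul.1 h3).symm
  rw [← card_mul_index (MulAut.conjNormal : X →* MulAut N).ker]
  refine Nat.mul_dvd_mul (card_dvd_of_le h1) ?_
  rw [Subgroup.index_ker]
  exact card_subgroup_dvd_card _

/-- an element of prime order among the powers -/
theorem exists_pow {X : Type*} [Group X] [Finite X] {p : ℕ} [hp : Fact p.Prime] {P : Subgroup X} (hP : IsPGroup p P) {a : X}
    (ha : a ∈ P) (ha1 : a ≠ 1) : ∃ v ∈ zpowers a, orderOf v = p := by
  obtain ⟨k, hk⟩ := IsPGroup.iff_orderOf.1 hP ⟨a, ha⟩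
  rw [Subgroup.orderOf_mk] at hk
  have hk0 : k ≠ 0 := by
    rintro rfl
    exact ha1 (orderOf_eq_one_iff.1 (by rw [hk, pow_zero]))
  obtain ⟨v, hv⟩ := exists_prime_orderOf_dvd_card' (G := zpowers a) p (by
    rw [Nat.card_zpowers, hk]
    exact dvd_pow_self p hk0)
  exact ⟨v, v.2, by rw [Subgroup.orderOf_coe, hv]⟩

theorem comm_zpowers {X : Type*} [Group X] {a v n : X} (hv : v ∈ zpowers a) (h : a * n = n * a) : v * n = n * v := by
  obtain ⟨k, rfl⟩ := mem_zpowers_iff.1 hv
  exact ((show Commute a n from h).zpow_left k).eq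

/-! ### the structure of `X` -/

/-- the facts about subgroups of order divisible by `225` -/
structure Hyp (X : Type u) [Group X] [Finite X] : Prop where
  dvd : Nat.card X ∣ 86400
  h25 : 25 ∣ Nat.card X
  h9 : 9 ∣ Nat.card X
  cent : ∀ P : Sylow 5 X, centralizer ((P : Subgroup X) : Set X) ≤ P
  h16 : ∀ y : X, orderOf y = 5 → ¬ 16 ∣ Nat.card (centralizer ({y} : Set X))
  c9 : ∀ y : X, orderOf y = 5 → ¬ 9 ∣ Nat.card (centralizer ({y} : Set X))
  pair : ∀ x y a b : X, orderOf x = 3 → orderOf y = 3 → orderOf a = 5 → orderOf b = 5 → Commute x y → Commute x a →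
    Commute y b → y ∈ zpowers x
  ord : ∀ (S : Subgroup X), IsSimpleGroup S → (¬ ∀ a b : S, a * b = b * a) → Nat.card S = 60 ∨ Nat.card S = 360

variable {X : Type u} [Group X] [Finite X]

theorem Hyp.card_sylow (h : Hyp X) (P : Sylow 5 X) : Nat.card (P : Subgroup X) = 25 := by
  have : Fact (Nat.Prime 5) := ⟨by norm_num⟩
  obtain ⟨k, hk⟩ := IsPGroup.iff_card.1 P.2
  have h1 : 5 ^ 2 ∣ Nat.card (P : Subgroup X) := P.pow_dvd_card_of_pow_dvd_card h.h25
  have h2 : 5 ^ k ∣ 5 ^ 2 * 3456 := by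
    rw [← hk]
    exact (card_subgroup_dvd_card _).trans h.dvd
  have h3 : k ≤ 2 := by
    by_contra hlt
    have h4 : 5 ^ 3 ∣ 5 ^ 2 * 3456 := (pow_dvd_pow 5 (by omega)).trans h2
    norm_num at h4
  rw [hk] at h1 ⊢
  have h4 : 2 ≤ k := (Nat.pow_dvd_pow_iff_le_right (by norm_num)).1 h1
  rw [le_antisymm h3 h4]
  norm_num

theorem Hyp.comm_sylow (h : Hyp X) (P : Sylow 5 X) {x y : X} (hx : x ∈ (P : Subgroup X)) (hy : y ∈ (P : Subgroup X)) :
    x * y = y * x := by
  have : Fact (Nat.Prime 5) := ⟨by norm_num⟩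
  have h1 : IsMulCommutative (P : Subgroup X) := IsPGroup.isMulCommutative_of_card_eq_prime_sq (p := 5)
    (by rw [h.card_sylow P]; norm_num)
  exact congrArg Subtype.val (h1.is_comm.comm (⟨x, hx⟩ : (P : Subgroup X)) ⟨y, hy⟩)

/-- no normal `r`-subgroups, `r ≠ 5` -/
theorem Hyp.not_pgroup (h : Hyp X) {r : ℕ} [hr : Fact r.Prime] (hr5 : r ≠ 5) (N : Subgroup X) [N.Normal]
    (hN : IsPGroup r N) : N = ⊥ := by
  have h5 : Fact (Nat.Prime 5) := ⟨by norm_num⟩
  obtain ⟨P⟩ : Nonempty (Sylow 5 X) := inferInstance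
  have h25 := h.card_sylow P
  obtain ⟨k, hk⟩ := IsPGroup.iff_card.1 hN
  have hk' : r ^ k ∣ 86400 := by
    rw [← hk]
    exact (card_subgroup_dvd_card _).trans h.dvd
  have hPN : ∀ D : Subgroup X, D ≤ N → ∀ g ∈ D, g ∈ centralizer ((P : Subgroup X) : Set X) → g = 1 := by
    intro D hD g hg hgP
    have h1 : g ∈ (P : Subgroup X) := h.cent P hgP
    obtain ⟨i, hi⟩ := IsPGroup.iff_orderOf.1 hN ⟨g, hD hg⟩
    obtain ⟨j, hj⟩ := IsPGroup.iff_orderOf.1 P.2 ⟨g, h1⟩
    rw [Subgroup.orderOf_mk] at hi hj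
    have h2 : Nat.Coprime (r ^ i) (5 ^ j) := Nat.Coprime.pow _ _ ((Nat.coprime_primes hr.out h5.out).2 hr5)
    rw [← hi, ← hj, Nat.coprime_self] at h2
    exact orderOf_eq_one_iff.1 h2
  have hfree : ∀ a ∈ (P : Subgroup X), a ≠ 1 → ∀ n ∈ N, a * n = n * a → n = 1 := by
    intro a ha ha1 n hn hc
    obtain ⟨v, hva, hv⟩ := exists_pow P.2 ha ha1
    have hvP : v ∈ (P : Subgroup X) := (zpowers_le.2 ha) hva
    set D : Subgroup X := N ⊓ centralizer ({v} : Set X) with hDdef
    have hnD : n ∈ D := ⟨hn, mem_centralizer_singleton_iff.2 (comm_zpowers hva hc).symm⟩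
    have hPD : (P : Subgroup X) ≤ normalizer (D : Set X) := by
      intro g hg
      have hgv : g * v = v * g := h.comm_sylow P hg hvP
      rw [mem_normalizer_iff]
      intro w
      have e1 : w ∈ N ↔ g * w * g⁻¹ ∈ N := by
        constructor
        · exact fun hw => ‹N.Normal›.conj_mem w hw g
        · intro hw
          have h2 := ‹N.Normal›.conj_mem _ hw g⁻¹
          have h3 : g⁻¹ * (g * w * g⁻¹) * g⁻¹⁻¹ = w := by group
          rwa [h3] at h2
      have e2 : w ∈ centralizer ({v} : Set X) ↔ g * w * g⁻¹ ∈ centralizer ({v} : Set X) := by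
        rw [mem_centralizer_singleton_iff, mem_centralizer_singleton_iff]
        have hc2 : Commute g⁻¹ v := (show Commute g v from hgv).inv_left
        constructor
        · intro hw
          calc g * w * g⁻¹ * v = g * w * (g⁻¹ * v) := by group
            _ = g * w * (v * g⁻¹) := by rw [hc2.eq]
            _ = g * (w * v) * g⁻¹ := by group
            _ = g * (v * w) * g⁻¹ := by rw [hw]
            _ = (g * v) * w * g⁻¹ := by group
            _ = v * (g * w * g⁻¹) := by rw [hgv]; group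
        · intro hw
          have h3 : g * (w * v) * g⁻¹ = g * (v * w) * g⁻¹ := by
            calc g * (w * v) * g⁻¹ = g * w * (v * g⁻¹) := by group
              _ = g * w * (g⁻¹ * v) := by rw [hc2.eq]
              _ = g * w * g⁻¹ * v := by group
              _ = v * (g * w * g⁻¹) := hw
              _ = (v * g) * w * g⁻¹ := by group
              _ = (g * v) * w * g⁻¹ := by rw [hgv]
              _ = g * (v * w) * g⁻¹ := by group
          have h4 := mul_right_cancel h3
          exact mul_left_cancel h4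
      rw [hDdef, mem_inf, mem_inf, ← e1, ← e2]
    have h3 := card_fix P.2 hPD
    have h4 : Nat.card ↥(D ⊓ centralizer ((P : Subgroup X) : Set X)) = 1 := by
      rw [Subgroup.card_eq_one, eq_bot_iff]
      intro g hg
      rw [mem_bot]
      exact hPN D inf_le_left g hg.1 hg.2
    rw [h4] at h3
    obtain ⟨j, hj⟩ := IsPGroup.iff_card.1 (hN.to_le (inf_le_left : D ≤ N))
    have hj16 : ¬ 16 ∣ Nat.card D := fun h5 => h.h16 v hv (h5.trans (card_dvd_of_le inf_le_right))
    have hjd : r ^ j ∣ 86400 := by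
      rw [← hj]
      exact (card_subgroup_dvd_card _).trans h.dvd
    rw [hj] at h3 hj16
    have hj0 : j = 0 := by
      have hr23 : j ≠ 0 → r = 2 ∨ r = 3 := by
        intro hj0
        have h6 : r ∣ 86400 := (dvd_pow_self r hj0).trans hjd
        have h7 : r ∣ 2 ^ 7 * 3 ^ 3 * 5 ^ 2 := h6
        rcases (Nat.Prime.dvd_mul hr.out).1 h7 with h8 | h8
        · rcases (Nat.Prime.dvd_mul hr.out).1 h8 with h9 | h9
          · exact Or.inl ((Nat.prime_dvd_prime_iff_eq hr.out Nat.prime_two).1 (hr.out.dvd_of_dvd_pow h9))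
          · exact Or.inr ((Nat.prime_dvd_prime_iff_eq hr.out Nat.prime_three).1 (hr.out.dvd_of_dvd_pow h9))
        · exact absurd ((Nat.prime_dvd_prime_iff_eq hr.out h5.out).1 (hr.out.dvd_of_dvd_pow h8)) hr5
      by_contra hj0
      rcases hr23 hj0 with rfl | rfl
      · have h6 : j < 4 := by
          by_contra hlt
          exact hj16 (pow_dvd_pow 2 (show 4 ≤ j by omega))
        unfold Nat.ModEq at h3
        interval_cases j <;> first | exact hj0 rfl | (revert h3; decide)
      · have h6 : j < 4 := by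
          by_contra hlt
          have h7 : 3 ^ 4 ∣ 86400 := (pow_dvd_pow 3 (show 4 ≤ j by omega)).trans hjd
          norm_num at h7
        unfold Nat.ModEq at h3
        interval_cases j <;> first | exact hj0 rfl | (revert h3; decide)
    rw [hj0, pow_zero, Subgroup.card_eq_one] at hj
    have hDb : D = ⊥ := hj
    rw [hDb] at hnD
    exact mem_bot.1 hnD
  have hn : (P : Subgroup X) ≤ normalizer (N : Set X) := by
    rw [normalizer_eq_top]
    exact le_top
  have h6 := dvd_of_free hn hfree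
  rw [h25, hk] at h6
  rw [← Subgroup.card_eq_one, hk]
  by_contra hne
  have hk0 : k ≠ 0 := by
    rintro rfl
    exact hne (pow_zero r)
  have h7 : r ∣ 2 ^ 7 * 3 ^ 3 * 5 ^ 2 := (dvd_pow_self r hk0).trans hk'
  have hr23 : r = 2 ∨ r = 3 := by
    rcases (Nat.Prime.dvd_mul hr.out).1 h7 with h8 | h8
    · rcases (Nat.Prime.dvd_mul hr.out).1 h8 with h9 | h9
      · exact Or.inl ((Nat.prime_dvd_prime_iff_eq hr.out Nat.prime_two).1 (hr.out.dvd_of_dvd_pow h9))
      · exact Or.inr ((Nat.prime_dvd_prime_iff_eq hr.out Nat.prime_three).1 (hr.out.dvd_of_dvd_pow h9))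
    · exact absurd ((Nat.prime_dvd_prime_iff_eq hr.out h5.out).1 (hr.out.dvd_of_dvd_pow h8)) hr5
  rcases hr23 with rfl | rfl
  · have h8 : k < 8 := by
      by_contra hlt
      have h9 : 2 ^ 8 ∣ 86400 := (pow_dvd_pow 2 (show 8 ≤ k by omega)).trans hk'
      norm_num at h9
    interval_cases k <;> first | exact hk0 rfl | (revert h6; decide)
  · have h8 : k < 4 := by
      by_contra hlt
      have h9 : 3 ^ 4 ∣ 86400 := (pow_dvd_pow 3 (show 4 ≤ k by omega)).trans hk'
      norm_num at h9
    interval_cases k <;> first | exact hk0 rfl | (revert h6; decide)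

/-- no normal `5`-subgroups -/
theorem Hyp.not_five (h : Hyp X) (N : Subgroup X) [N.Normal] (hN : IsPGroup 5 N) : N = ⊥ := by
  have h5 : Fact (Nat.Prime 5) := ⟨by norm_num⟩
  obtain ⟨P, hP⟩ := hN.exists_le_sylow
  obtain ⟨k, hk⟩ := IsPGroup.iff_card.1 hN
  have h25 := h.card_sylow P
  have hk2 : k ≤ 2 := by
    have h1 : 5 ^ k ∣ 5 ^ 2 := by
      rw [← hk, show (5 : ℕ) ^ 2 = 25 by norm_num, ← h25]
      exact card_dvd_of_le hP
    exact (Nat.pow_dvd_pow_iff_le_right (by norm_num)).1 h1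
  have h1 := h.h9.trans (card_dvd_aut N)
  rw [← Subgroup.card_eq_one, hk]
  by_contra hne
  interval_cases k
  · exact hne (pow_zero 5)
  · -- order 5
    rw [pow_one] at hk
    have h2 : Nat.card (MulAut N) = 4 := by
      have : IsCyclic N := isCyclic_of_prime_card hk
      rw [IsCyclic.card_mulAut, hk]
      decide
    obtain ⟨⟨y, hyN⟩, hy⟩ := exists_prime_orderOf_dvd_card' (G := N) 5 (by rw [hk])
    rw [Subgroup.orderOf_mk] at hy
    have h3 : centralizer (N : Set X) ≤ centralizer ({y} : Set X) :=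
      centralizer_le (Set.singleton_subset_iff.2 hyN)
    rw [h2] at h1
    have h4 : 9 ∣ Nat.card (centralizer (N : Set X)) :=
      (show Nat.Coprime 9 4 by norm_num).dvd_of_dvd_mul_right h1
    exact h.c9 y hy (h4.trans (card_dvd_of_le h3))
  · -- order 25
    have hNP : N = (P : Subgroup X) := eq_of_le_of_card_ge hP (by rw [hk, h25]; norm_num)
    have h3 : Nat.card (centralizer (N : Set X)) ∣ 25 := by
      rw [← h25, hNP]
      exact card_dvd_of_le (h.cent P)
    have h4 := Cfsg.Agent.SmallSimple.BurnsideNC.card_mulAut_dvd_of_card_eq_sq (P := N) (p := 5) hk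
    have h5 := h1.trans (Nat.mul_dvd_mul h3 h4)
    norm_num at h5

theorem card_aut_of {S : Type*} [Group S] [Finite S] (hS : IsSimpleGroup S) (h : Nat.card S = 60 ∨ Nat.card S = 360) :
    ¬ 25 ∣ Nat.card (MulAut S) := by
  rcases h with h | h
  · obtain ⟨e⟩ := Cfsg.Agent.S0494.result h
    have h1 : Nat.card (MulAut S) = Nat.card (MulAut (alternatingGroup (Fin 5))) :=
      Nat.card_congr (MulAut.congr e).toEquiv
    have h2 : Nat.card (MulAut (alternatingGroup (Fin 5))) = Nat.card (Equiv.Perm (Fin 5)) :=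
      (Nat.card_congr (Equiv.ofBijective _ (Cfsg.Agent.S2119.result 5 (by omega) (by omega)))).symm
    rw [h1, h2, Nat.card_perm, Nat.card_fin]
    decide
  · obtain ⟨e⟩ := Cfsg.Agent.S0497.result h
    have h1 : Nat.card (MulAut S) = Nat.card (MulAut (alternatingGroup (Fin 6))) :=
      Nat.card_congr (MulAut.congr e).toEquiv
    rw [h1, Cfsg.Agent.H824.ProdLem.card_aut_a6]
    decide

/-- the minimal normal subgroups are simple of order 60 or 360 -/
theorem Hyp.minimal (h : Hyp X) (N : Subgroup X) [N.Normal] (hN : N ≠ ⊥)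
    (hmin : ∀ K : Subgroup X, K.Normal → K ≤ N → K = ⊥ ∨ K = N) :
    IsSimpleGroup N ∧ (¬ ∀ a b : N, a * b = b * a) ∧ (Nat.card N = 60 ∨ Nat.card N = 360) := by
  obtain ⟨S, m, -, hS, hm, ⟨e⟩⟩ := Cfsg.Agent.Lib.MinNormal.exists_mulEquiv_pi N hN hmin
  have hcard : Nat.card N = Nat.card S ^ m := by
    rw [Nat.card_congr e.toEquiv, Nat.card_fun, Nat.card_fin]
  have hna : ¬ ∀ a b : S, a * b = b * a := by
    intro hab
    let _ : CommGroup S := { (inferInstance : Group S) with mul_comm := hab }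
    have h3 : (Nat.card S).Prime := IsSimpleGroup.prime_card
    have := Fact.mk h3
    have h4 : IsPGroup (Nat.card S) N := IsPGroup.iff_card.2 ⟨m, hcard⟩
    by_cases h5 : Nat.card S = 5
    · rw [h5] at h4
      exact hN (h.not_five N h4)
    · exact hN (h.not_pgroup h5 N h4)
  have hSo := h.ord S hS hna
  have hm1 : m = 1 := by
    by_contra hne
    have f3 : Fact (Nat.Prime 3) := ⟨by norm_num⟩
    have f5 : Fact (Nat.Prime 5) := ⟨by norm_num⟩
    obtain ⟨x, hx⟩ := exists_prime_orderOf_dvd_card' (G := S) 3 (by rcases hSo with h1 | h1 <;> rw [h1] <;> norm_num)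
    obtain ⟨y, hy⟩ := exists_prime_orderOf_dvd_card' (G := S) 5 (by rcases hSo with h1 | h1 <;> rw [h1] <;> norm_num)
    let i : Fin m := ⟨0, by omega⟩
    let j : Fin m := ⟨1, by omega⟩
    have hij : i ≠ j := by
      intro h
      exact absurd (congrArg Fin.val h) (by norm_num [i, j])
    let g : (Fin m → S) →* X := N.subtype.comp e.symm.toMonoidHom
    have hg : Function.Injective g := N.subtype_injective.comp e.symm.injective
    have ho : ∀ (k : Fin m) (s : S), orderOf (g (Pi.mulSingle k s)) = orderOf s := by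
      intro k s
      rw [orderOf_injective g hg]
      exact orderOf_injective (MonoidHom.mulSingle (fun _ : Fin m => S) k)
        (Pi.mulSingle_injective (M := fun _ : Fin m => S) k) s
    have hc : ∀ (k l : Fin m), k ≠ l → ∀ s t : S, Commute (g (Pi.mulSingle k s)) (g (Pi.mulSingle l t)) := by
      intro k l hkl s t
      have h3 : Commute (Pi.mulSingle k s : Fin m → S) (Pi.mulSingle l t) :=
        Pi.mulSingle_commute (f := fun _ : Fin m => S) hkl s t
      exact h3.map g
    have h1 := h.pair (g (Pi.mulSingle i x)) (g (Pi.mulSingle j x)) (g (Pi.mulSingle j y)) (g (Pi.mulSingle i y))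
      ((ho i x).trans hx) ((ho j x).trans hx) ((ho j y).trans hy) ((ho i y).trans hy) (hc i j hij _ _)
      (hc i j hij _ _) (hc j i hij.symm _ _)
    obtain ⟨k, hk⟩ := mem_zpowers_iff.1 h1
    rw [← map_zpow] at hk
    have h2 := hg hk
    have h3 := congrFun h2 j
    rw [Pi.pow_apply, Pi.mulSingle_eq_of_ne hij.symm, one_zpow, Pi.mulSingle_eq_same] at h3
    rw [← h3, orderOf_one] at hx
    omega
  subst hm1
  have e1 : N ≃* S := e.trans (MulEquiv.piUnique (fun _ : Fin 1 => S))
  have h1 : Nat.card N = Nat.card S := Nat.card_congr e1.toEquiv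
  refine ⟨(MulEquiv.isSimpleGroup_congr e1).2 hS, fun hab => hna fun a b => ?_, by rw [h1]; exact hSo⟩
  have h2 := hab (e1.symm a) (e1.symm b)
  have h3 := congrArg e1 h2
  rwa [map_mul, map_mul, e1.apply_symm_apply, e1.apply_symm_apply] at h3

/-- **there is no such group** -/
theorem Hyp.false (h : Hyp X) : False := by
  have f3 : Fact (Nat.Prime 3) := ⟨by norm_num⟩
  have f5 : Fact (Nat.Prime 5) := ⟨by norm_num⟩
  have hnt : Nontrivial X := by
    rw [← Finite.one_lt_card_iff_nontrivial]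
    have h1 := Nat.le_of_dvd Nat.card_pos h.h9
    omega
  obtain ⟨N, hN, hN1, hmin⟩ := Cfsg.Agent.Lib.SubnormalJoin.exists_minimal_normal X
  obtain ⟨hS, hna, hc⟩ := h.minimal N hN1 hmin
  have h1 := h.h25.trans (card_dvd_aut N)
  have h2 := card_aut_of hS hc
  have h3 : 5 ∣ Nat.card (centralizer (N : Set X)) := by
    by_contra h4
    have h5 : Nat.Coprime (5 ^ 2) (Nat.card (centralizer (N : Set X))) :=
      Nat.Coprime.pow_left _ ((Nat.Prime.coprime_iff_not_dvd (by norm_num)).2 h4)
    exact h2 (h5.dvd_of_dvd_mul_left h1)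
  have hC : centralizer (N : Set X) ≠ ⊥ := by
    intro h4
    rw [h4, Subgroup.card_bot] at h3
    norm_num at h3
  obtain ⟨L, hL, hLC, hL1, hLmin⟩ := Cfsg.Agent.Lib.SubnormalJoin.exists_minimal_normal_le
    (centralizer (N : Set X)) inferInstance hC
  obtain ⟨-, -, hcL⟩ := h.minimal L hL1 hLmin
  have hcomm : ∀ x ∈ N, ∀ y ∈ L, Commute x y := fun x hx y hy => mem_centralizer_iff.1 (hLC hy) x hx
  obtain ⟨⟨x, hxN⟩, hx⟩ := exists_prime_orderOf_dvd_card' (G := N) 3 (by rcases hc with h1 | h1 <;> rw [h1] <;> norm_num)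
  obtain ⟨⟨b, hbN⟩, hb⟩ := exists_prime_orderOf_dvd_card' (G := N) 5 (by rcases hc with h1 | h1 <;> rw [h1] <;> norm_num)
  obtain ⟨⟨y, hyL⟩, hy⟩ := exists_prime_orderOf_dvd_card' (G := L) 3 (by rcases hcL with h1 | h1 <;> rw [h1] <;> norm_num)
  obtain ⟨⟨a, haL⟩, ha⟩ := exists_prime_orderOf_dvd_card' (G := L) 5 (by rcases hcL with h1 | h1 <;> rw [h1] <;> norm_num)
  rw [Subgroup.orderOf_mk] at hx hb hy ha
  have h4 := h.pair x y a b hx hy ha hb (hcomm x hxN y hyL) (hcomm x hxN a haL) (hcomm b hbN y hyL).symm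
  have h5 : y ∈ N := (zpowers_le.2 hxN) h4
  -- the center of `N` is trivial
  have h6 : (⟨y, h5⟩ : N) ∈ center N := by
    rw [mem_center_iff]
    intro g
    exact Subtype.ext (hcomm g g.2 y hyL).eq
  have h7 : center N = ⊥ := by
    rcases hS.eq_bot_or_eq_top_of_normal (center N) inferInstance with h8 | h8
    · exact h8
    · exfalso
      apply hna
      intro a b
      exact (mem_center_iff.1 (h8 ▸ mem_top b : b ∈ center N)) a
  rw [h7, mem_bot] at h6
  have h8 : y = 1 := congrArg Subtype.val h6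
  rw [h8, orderOf_one] at hy
  omega

end Cfsg.Agent.H51.Der.JTwo
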